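import Groth.Agent.NagataNorm.AlgClosure
import Groth.Agent.Nagata.Basic
import Mathlib.AlgebraicGeometry.Normalization
import Mathlib.AlgebraicGeometry.Morphisms.Finite
import Mathlib.AlgebraicGeometry.ResidueField
import Mathlib.RingTheory.Finiteness.Prod
import Mathlib.AlgebraicGeometry.Noetherian
import Mathlib.AlgebraicGeometry.Morphisms.FiniteType

/-!
Finiteness of relative normalizations over Nagata schemes.
-/

set_option autoImplicit false
set_option linter.style.haveILetI false
universe u

open CategoryTheory AlgebraicGeometry TopologicalSpace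

namespace Groth.Agent.NagataNorm

/-- Integral closure of a Nagata ring in a finitely generated field extension of one of its residue fields. -/
theorem finite_closure_field {A F L : Type u} [CommRing A] [Field F] [Field L] [Algebra A F] [Algebra F L]
    [Algebra A L] [IsScalarTower A F L] (hA : CAlg.IsNagata A)
    (hF : ∀ z : F, ∃ a s : A, algebraMap A F s ≠ 0 ∧ z * algebraMap A F s = algebraMap A F a)
    [Algebra.EssFiniteType F L] : Module.Finite A (integralClosure A L) := by
  let p := RingHom.ker (algebraMap A F)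
  haveI : p.IsPrime := RingHom.ker_isPrime _
  letI : Algebra (A ⧸ p) F := (RingHom.kerLift (algebraMap A F)).toAlgebra
  haveI : IsScalarTower A (A ⧸ p) F := IsScalarTower.of_algebraMap_eq fun _ => rfl
  haveI : IsFractionRing (A ⧸ p) F := by
    haveI : FaithfulSMul (A ⧸ p) F := (faithfulSMul_iff_algebraMap_injective _ _).mpr (RingHom.kerLift_injective _)
    refine IsFractionRing.of_field _ _ fun z => ?_
    obtain ⟨a, s, hs, h⟩ := hF z
    exact ⟨Ideal.Quotient.mk p a, Ideal.Quotient.mk p s, ((div_eq_iff hs).2 h.symm).symm⟩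
  let C := algebraicClosure F L
  haveI : FiniteDimensional F C := finite_algebraicClosure F L
  letI : Algebra (A ⧸ p) C := ((algebraMap F C).comp (algebraMap (A ⧸ p) F)).toAlgebra
  haveI : IsScalarTower (A ⧸ p) F C := IsScalarTower.of_algebraMap_eq fun _ => rfl
  haveI := hA.1
  haveI := Nagata.finite_closure_of_frac (hA.2 p) F C
  haveI : IsScalarTower A (A ⧸ p) C := IsScalarTower.of_algebraMap_eq fun a => by
    refine Subtype.ext ?_
    show algebraMap A L a = algebraMap F L (algebraMap (A ⧸ p) F (Ideal.Quotient.mk p a))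
    rw [IsScalarTower.algebraMap_apply A F L]
    rfl
  haveI : Module.Finite A (A ⧸ p) := Module.Finite.of_surjective (Algebra.linearMap A (A ⧸ p)) Ideal.Quotient.mk_surjective
  haveI : Module.Finite A (integralClosure (A ⧸ p) C) := Module.Finite.trans (A ⧸ p) _
  haveI : IsNoetherian A (integralClosure (A ⧸ p) C) := isNoetherian_of_isNoetherianRing_of_finite A _
  have hmem : ∀ z : integralClosure A L, (z : L) ∈ C := fun z =>
    (mem_algebraicClosure_iff).2 (IsIntegral.tower_top (A := F) (z.2 : IsIntegral A (z : L))).isAlgebraic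
  have hint : ∀ z : integralClosure A L, IsIntegral (A ⧸ p) (⟨z, hmem z⟩ : C) := fun z => by
    refine IsIntegral.tower_top (R := A) ?_
    haveI : IsScalarTower A C L := IsScalarTower.of_algebraMap_eq fun _ => rfl
    have h : _root_.IsIntegral A ((IsScalarTower.toAlgHom A C L) ⟨z, hmem z⟩) := z.2
    exact (isIntegral_algHom_iff (IsScalarTower.toAlgHom A C L) (algebraMap C L).injective).1 h
  refine Module.Finite.of_injective
    ({ toFun := fun z => ⟨⟨z, hmem z⟩, hint z⟩
       map_add' := fun _ _ => rfl
       map_smul' := fun a z => Subtype.ext (Subtype.ext rfl) } : integralClosure A L →ₗ[A] integralClosure (A ⧸ p) C)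
    fun z w h => Subtype.ext (congrArg (fun v : integralClosure (A ⧸ p) C => ((v : C) : L)) h)

variable {X S : Scheme.{u}} (f : X ⟶ S) [QuasiCompact f] [QuasiSeparated f] [IsReduced X]

omit [IsReduced X] in
/-- Every nonempty open contains the generic point of an irreducible component. -/
theorem exists_component_point_mem (V : X.Opens) {y : X} (hy : y ∈ V) :
    ∃ η ∈ V, closure {η} ∈ irreducibleComponents X := by
  obtain ⟨η, hη⟩ := QuasiSober.sober (α := X) (S := irreducibleComponent y)
    isIrreducible_irreducibleComponent isClosed_irreducibleComponent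
  refine ⟨η, ?_, hη.def ▸ irreducibleComponent_mem_irreducibleComponents y⟩
  exact (hη.specializes mem_irreducibleComponent).mem_open V.isOpen hy

/-- Finiteness of the normalization of a Nagata scheme in a reduced scheme with finitely many components
over affine opens and finitely generated residue field extensions at their generic points. -/
theorem isFinite_fromNormalization (hS : ∀ U : S.affineOpens, CAlg.IsNagata Γ(S, U))
    (hfin : ∀ U : S.affineOpens, {η : X | η ∈ f ⁻¹ᵁ U.1 ∧ closure {η} ∈ irreducibleComponents X}.Finite)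
    (hres : ∀ x : X, closure {x} ∈ irreducibleComponents X → (f.residueFieldMap x).hom.EssFiniteType) :
    IsFinite f.fromNormalization := by
  refine { finite_app := fun U hU => ?_ }
  letI := (f.app U).hom.toAlgebra
  rw [f.fromNormalization_app hU, CommRingCat.hom_comp, CommRingCat.hom_ofHom]
  refine RingHom.Finite.comp (RingHom.Finite.of_surjective _
    (f.normalizationObjIso hU).symm.commRingCatIsoToRingEquiv.surjective) ?_
  rw [RingHom.finite_algebraMap]
  let G := {η : X | η ∈ f ⁻¹ᵁ U ∧ closure {η} ∈ irreducibleComponents X}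
  haveI : Finite G := hfin ⟨U, hU⟩
  haveI := (hS ⟨U, hU⟩).1
  letI : ∀ η : G, Algebra Γ(S, U) (X.residueField η.1) := fun η =>
    ((X.evaluation (f ⁻¹ᵁ U) η.1 η.2.1).hom.comp (f.app U).hom).toAlgebra
  have hfld : ∀ η : G, Module.Finite Γ(S, U) (integralClosure Γ(S, U) (X.residueField η.1)) := fun η => by
    letI : Algebra Γ(S, U) (S.residueField (f η.1)) := (S.evaluation U (f η.1) η.2.1).hom.toAlgebra
    letI : Algebra (S.residueField (f η.1)) (X.residueField η.1) := (f.residueFieldMap η.1).hom.toAlgebra
    haveI : IsScalarTower Γ(S, U) (S.residueField (f η.1)) (X.residueField η.1) :=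
      IsScalarTower.of_algebraMap_eq' <| by
        show (f.app U ≫ X.presheaf.germ _ _ η.2.1 ≫ X.residue η.1).hom =
          (S.presheaf.germ U _ η.2.1 ≫ S.residue (f η.1) ≫ f.residueFieldMap η.1).hom
        rw [Scheme.residue_residueFieldMap]
        exact congrArg CommRingCat.Hom.hom (Scheme.Hom.germ_stalkMap_assoc f U η.1 η.2.1 (X.residue η.1)).symm
    haveI : Algebra.EssFiniteType (S.residueField (f η.1)) (X.residueField η.1) := hres η.1 η.2.2
    refine finite_closure_field (F := S.residueField (f η.1)) (hS ⟨U, hU⟩) fun z => ?_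
    obtain ⟨w, rfl⟩ := S.residue_surjective (f η.1) z
    letI := TopCat.Presheaf.algebra_section_stalk S.presheaf ⟨f η.1, η.2.1⟩
    haveI := hU.isLocalization_stalk ⟨f η.1, η.2.1⟩
    obtain ⟨⟨a, s⟩, h⟩ := IsLocalization.surj (hU.primeIdealOf ⟨f η.1, η.2.1⟩).asIdeal.primeCompl w
    refine ⟨a, s, ?_, (map_mul (S.residue (f η.1)).hom w _).symm.trans (congrArg (S.residue (f η.1)).hom h)⟩
    exact ((IsLocalization.map_units (S.presheaf.stalk (f η.1)) s).map (S.residue (f η.1)).hom).ne_zero
  let φ : Γ(X, f ⁻¹ᵁ U) →ₐ[Γ(S, U)] ∀ η : G, X.residueField η.1 :=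
    AlgHom.pi fun η => { (X.evaluation (f ⁻¹ᵁ U) η.1 η.2.1).hom with commutes' := fun _ => rfl }
  have hφ : Function.Injective φ := by
    refine (injective_iff_map_eq_zero φ).2 fun a ha => ?_
    rw [← basicOpen_eq_bot_iff]
    refine Opens.ext (Set.eq_empty_iff_forall_notMem.2 fun y hy => ?_)
    obtain ⟨η, hη, hcomp⟩ := exists_component_point_mem (X.basicOpen a) hy
    exact (X.evaluation_ne_zero_iff_mem_basicOpen η (X.basicOpen_le a hη) a).2 hη
      (congrFun ha ⟨η, X.basicOpen_le a hη, hcomp⟩)
  haveI := fun η => hfld η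
  haveI : IsNoetherian Γ(S, U) (∀ η : G, integralClosure Γ(S, U) (X.residueField η.1)) :=
    isNoetherian_of_isNoetherianRing_of_finite _ _
  refine Module.Finite.of_injective
    (LinearMap.pi fun η : G =>
      ({ toFun := fun z => ⟨φ z.1 η, (z.2 : IsIntegral Γ(S, U) (z : Γ(X, f ⁻¹ᵁ U))).map ((Pi.evalAlgHom _ _ η).comp φ)⟩
         map_add' := fun z w => Subtype.ext (congrFun (map_add φ z.1 w.1) η)
         map_smul' := fun a z => Subtype.ext (congrFun (map_smul φ a z.1) η) } :
        integralClosure Γ(S, U) Γ(X, f ⁻¹ᵁ U) →ₗ[Γ(S, U)] integralClosure Γ(S, U) (X.residueField η.1)))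
    fun z w h => Subtype.ext (hφ (funext fun η => congrArg Subtype.val (congrFun h η)))

end Groth.Agent.NagataNorm

namespace Groth.Agent.NagataNorm

variable {X S : Scheme.{u}} (f : X ⟶ S)

/-- A compact open of a locally Noetherian scheme meets finitely many components. -/
theorem finite_components_of_isCompact [IsLocallyNoetherian X] (V : X.Opens) (hV : IsCompact (V : Set X)) :
    {η : X | η ∈ V ∧ closure {η} ∈ irreducibleComponents X}.Finite := by
  haveI : IsLocallyNoetherian (V : Scheme.{u}) := isLocallyNoetherian_of_isOpenImmersion V.ι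
  haveI : CompactSpace (V : Scheme.{u}) := isCompact_iff_compactSpace.1 hV
  haveI : IsNoetherian (V : Scheme.{u}) := ⟨⟩
  refine Set.Finite.of_finite_image (f := fun η => V.ι ⁻¹' closure {η})
    ((NoetherianSpace.finite_irreducibleComponents (α := (V : Scheme.{u}))).subset ?_) ?_
  · rintro _ ⟨η, ⟨hη, hc⟩, rfl⟩
    exact preimage_mem_irreducibleComponents hc V.ι.isOpenEmbedding
      ⟨η, subset_closure rfl, ⟨η, hη⟩, rfl⟩
  · rintro a ⟨ha, -⟩ b ⟨hb, -⟩ h
    have h1 : a ∈ closure {b} :=
      (Set.ext_iff.1 h ⟨a, ha⟩).1 (subset_closure rfl : a ∈ closure {a})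
    have h2 : b ∈ closure {a} :=
      (Set.ext_iff.1 h ⟨b, hb⟩).2 (subset_closure rfl : b ∈ closure {b})
    exact ((specializes_iff_mem_closure.2 h2).antisymm (specializes_iff_mem_closure.2 h1)).eq

/-- Finite type morphisms have finitely generated residue field extensions. -/
theorem residueFieldMap_essFiniteType [LocallyOfFiniteType f] (x : X) :
    (f.residueFieldMap x).hom.EssFiniteType := by
  have h := (LocallyOfFiniteType.stalkMap f x).comp
    (RingHom.FiniteType.of_surjective (X.residue x).hom (X.residue_surjective x)).essFiniteType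
  rw [← CommRingCat.hom_comp, ← Scheme.residue_residueFieldMap, CommRingCat.hom_comp] at h
  exact h.of_comp

end Groth.Agent.NagataNorm
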