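import Mathlib.FieldTheory.FinTrdeg
import Mathlib.FieldTheory.AlgebraicClosure
import Mathlib.RingTheory.AlgebraicIndependent.AlgebraicClosure
import Mathlib.RingTheory.Localization.Module

/-!
The relative algebraic closure in a finitely generated field extension is finite.
-/

set_option autoImplicit false
set_option linter.style.haveILetI false
universe u

namespace Groth.Agent.NagataNorm

open IntermediateField
open scoped IntermediateField.algebraAdjoinAdjoin

theorem finite_algebraicClosure (F L : Type u) [Field F] [Field L] [Algebra F L] [Algebra.EssFiniteType F L] :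
    FiniteDimensional F (algebraicClosure F L) := by
  classical
  obtain ⟨B, hB⟩ := exists_finset_isTranscendenceBasis F L
  let C := algebraicClosure F L
  let T := IntermediateField.adjoin F (Set.range ((↑) : B → L))
  haveI hTalg : Algebra.IsAlgebraic T L := hB.isAlgebraic_field
  have hTfin : FiniteDimensional T L := by
    haveI : Algebra.EssFiniteType T L := Algebra.EssFiniteType.of_comp F T L
    obtain ⟨S, hS⟩ := IntermediateField.fg_top (F := T) (E := L)
    have := IntermediateField.finiteDimensional_adjoin (K := T) (S := (S : Set L)) fun x _ =>
      (hTalg.isAlgebraic x).isIntegral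
    rw [hS] at this
    exact Module.Finite.equiv (IntermediateField.topEquiv (F := T) (E := L)).toLinearEquiv
  refine Module.rank_lt_aleph0_iff.1 ((rank_le fun s hs => ?_).trans_lt
    (Cardinal.natCast_lt_aleph0 (n := Module.finrank T L)))
  have hC : AlgebraicIndependent C ((↑) : B → L) := hB.1.extendScalars C
  have hlin : LinearIndependent (Algebra.adjoin F (Set.range ((↑) : B → L)))
      fun a : s => ((a : C) : L) := by
    rw [Fintype.linearIndependent_iff]
    intro g hg
    have hg' : ∀ a : s, ∃ p : MvPolynomial B F, MvPolynomial.aeval ((↑) : B → L) p = (g a : L) := fun a => by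
      have := (g a).2
      exact (Algebra.adjoin_range_eq_range_aeval F ((↑) : B → L)).le this
    choose p hp using hg'
    have h0 : ∑ a : s, (p a).map (algebraMap F C) * MvPolynomial.C (a : C) = 0 := by
      refine hC ?_
      rw [map_zero, map_sum, ← hg]
      refine Finset.sum_congr rfl fun a _ => ?_
      rw [map_mul, MvPolynomial.aeval_C, MvPolynomial.aeval_map_algebraMap, hp, Algebra.smul_def]
      rfl
    intro a
    have hpa : p a = 0 := by
      ext m
      have h1 := congrArg (MvPolynomial.coeff m) h0
      simp only [mul_comm _ (MvPolynomial.C _), MvPolynomial.coeff_sum, MvPolynomial.coeff_C_mul, MvPolynomial.coeff_map,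
        MvPolynomial.coeff_zero] at h1
      refine Fintype.linearIndependent_iff.1 hs (fun b => MvPolynomial.coeff m (p b)) ?_ a
      rw [← h1]
      exact Finset.sum_congr rfl fun b _ => by rw [Algebra.smul_def, mul_comm]
    exact Subtype.ext (by rw [← hp a, hpa, map_zero]; rfl)
  have hlinT : LinearIndependent T fun a : s => ((a : C) : L) :=
    (LinearIndependent.iff_fractionRing (Algebra.adjoin F (Set.range ((↑) : B → L))) T).1 hlin
  simpa using hlinT.fintype_card_le_finrank

end Groth.Agent.NagataNorm
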